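import Groth.Agent.Lib.LocZ25.Depth
import Groth.Agent.Lib.Euler.Coh
import Groth.Agent.Lib.Euler.VB

/-!
# The first nonvanishing local cohomology sheaf; locally free modules
-/

universe u

open CategoryTheory Limits Opposite TopologicalSpace AlgebraicGeometry TensorProduct

namespace GrothLib.LocZ25

open GrothLib

variable {X : TopCat.{u}} (U : Opens X)

theorem nonempty_sections_iso (d : ℕ) : ∀ F : CohTop.Ab X,
    (∀ i, i < d → IsZero ((LocCohZ.HZsh U i).obj F)) →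
      Nonempty (((LocCohZ.HZsh U d).obj F).obj.obj (op ⊤) ≃+ LocCohZ.HZc F d U) := by
  induction d with
  | zero =>
    intro F _
    have := LocZ.preservesFiniteLimits_sectSuppF U
    let e0 := ((sheafToPresheaf _ _).mapIso ((LocCohZ.sectSuppF U).rightDerivedZeroIsoSelf.app F)).app (op ⊤)
    exact ⟨e0.addCommGroupIsoToAddEquiv.trans (((LocZ.gammaZFIso U).app F).addCommGroupIsoToAddEquiv.trans
      (LocCohZ.sect0Equiv F (le_top : U ≤ ⊤)).symm)⟩
  | succ d ih =>
    intro F hF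
    have h0 := (LocZ.HZsh_zero_iff U F).1 (hF 0 d.succ_pos)
    obtain ⟨S, hS, ⟨e⟩, hI, h2⟩ := LocZ.exists_embedding U F h0
    have := LocZ.preservesFiniteLimits_sectSuppF U
    have hsh : ∀ i, Nonempty ((LocCohZ.HZsh U (i + 1)).obj F ≅ (LocCohZ.HZsh U i).obj S.X₃) := by
      intro i
      cases i with
      | succ i => exact ⟨(LocCohZ.HZsh U (i + 2)).mapIso e.symm ≪≫ HomGamma.shiftIso hS (LocCohZ.sectSuppF U) i⟩
      | zero =>
        have hz : (LocCohZ.sectSuppF U).map S.g = 0 := IsZero.eq_of_src h2 _ _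
        exact ⟨(LocCohZ.HZsh U 1).mapIso e.symm ≪≫ HomGamma.shiftIsoOne hS (LocCohZ.sectSuppF U) ≪≫
          cokernelIsoOfEq hz ≪≫ cokernelZeroIsoTarget ≪≫
          ((LocCohZ.sectSuppF U).rightDerivedZeroIsoSelf.app S.X₃).symm⟩
    obtain ⟨e1⟩ := ih S.X₃ (fun i hi => (hF (i + 1) (Nat.succ_lt_succ hi)).of_iso (hsh i).some.symm)
    have hsub : ∀ i, Subsingleton (LocCohZ.HZc S.X₂ i U) := fun i => by
      cases i with
      | zero =>
        have h3 := (LocZ.isZero_sectSupp_iff U _).1 h2 ⊤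
        refine ⟨fun a b => (LocCohZ.sect0Equiv _ (le_top : U ≤ ⊤)).injective (Subtype.ext ?_)⟩
        have hv : ∀ c : LocCohZ.HZc S.X₂ 0 U,
            (LocCohZ.sect0Equiv _ (le_top : U ≤ ⊤) c).1 ∈ LocCohZ.sectZ S.X₂ (inf_le_left : ⊤ ⊓ U ≤ ⊤) := fun c =>
          AddMonoidHom.mem_ker.2 ((LocZ.vanish_inf_iff U S.X₂ ⊤ _ le_top (top_inf_eq U)).2
            (LocCohZ.sect0Equiv _ (le_top : U ≤ ⊤) c).2)
        have := Subsingleton.elim (α := LocCohZ.sectZ S.X₂ (inf_le_left : ⊤ ⊓ U ≤ ⊤)) ⟨_, hv a⟩ ⟨_, hv b⟩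
        exact (Subtype.mk.injEq _ _ _ _).mp this
      | succ i => exact Abelian.Ext.subsingleton_of_injective _ _ _
    exact ⟨(((sheafToPresheaf _ _).mapIso (hsh d).some).app (op ⊤)).addCommGroupIsoToAddEquiv.trans (e1.trans
      ((SheafCoh.extShift hS d (hsub d) (hsub (d + 1))).trans
        (((Abelian.extFunctorObj (LocCohZ.zq (le_top : U ≤ ⊤)) (d + 1)).mapIso e).addCommGroupIsoToAddEquiv)))⟩

theorem idealDepth_le_flat {R : Type u} [CommRing R] {I : Ideal R} (hI : I ≠ ⊤) (M : Type u) [AddCommGroup M]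
    [Module R M] [Module.Flat R M] : LocCoh.idealDepth I R ≤ LocCoh.idealDepth I M := by
  unfold LocCoh.idealDepth
  have h : ¬ I • (⊤ : Submodule R R) = ⊤ := by
    simpa [Ideal.mul_top] using hI
  rw [if_neg h]
  split_ifs with hM
  · exact le_top
  · refine iSup₂_le fun rs hrs => le_iSup₂_of_le rs ⟨?_, hrs.2⟩ le_rfl
    exact ((TensorProduct.rid R M).isWeaklyRegular_congr rs).1 hrs.1.isWeaklyRegular_lTensor

theorem depth_ge_of_isFinLocFree {Y : Scheme.{u}} {M : Y.Modules} (hM : FlatMod.IsFinLocFree M) (x : Y) :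
    LocCoh.depth (Y.presheaf.stalk x) (Y.presheaf.stalk x) ≤ LocCoh.depth (Y.presheaf.stalk x) (M.presheaf.stalk x) := by
  obtain ⟨V, m, e, hx, he⟩ := FinCov.exists_frame_nhd hM x
  obtain ⟨b⟩ := Euler.stalk_basis_of_frame he hx
  have : Module.Free (Y.presheaf.stalk x) (M.presheaf.stalk x) := Module.Free.of_basis b
  exact idealDepth_le_flat (IsLocalRing.maximalIdeal.isMaximal _).ne_top _

end GrothLib.LocZ25
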