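import Groth.Agent.Lib.LocZ25.TildeFlasque
import Groth.Agent.Lib.LocZ.Sheaf
import Groth.Agent.Lib.QCoh.Abelian
import Groth.Agent.Lib.QCoh.ToSheaf
import Mathlib.RingTheory.Regular.RegularSequence
import Mathlib.RingTheory.Ideal.AssociatedPrime.Finiteness
import Mathlib.Algebra.Category.ModuleCat.Injective
import Mathlib.Algebra.Module.Injective

/-!
# Cohomology with supports of coherent modules on a Noetherian affine scheme
-/

universe u

open CategoryTheory Limits Opposite TopologicalSpace AlgebraicGeometry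
open scoped Pointwise

namespace GrothLib.LocZ25

open GrothLib

variable {R : CommRingCat.{u}}

/-- The abelian sheaf of a module. -/
noncomputable abbrev ab : ModuleCat.{u} R ⥤ CohTop.Ab (Spec R).carrier :=
  tilde.functor R ⋙ QCoh.toAbFun (Spec R)

theorem ab_shortExact (S : ShortComplex (ModuleCat.{u} R)) (hS : S.ShortExact) : (S.map ab).ShortExact :=
  QCoh.toAbFun_map_shortExact _ (QCoh.tildeFunctor_map_shortExact S hS)

/-- Multiplication by a scalar. -/
noncomputable abbrev mulEnd (r : R) (M : ModuleCat.{u} R) : M ⟶ M := r • 𝟙 M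

theorem app_toOpen {M N : ModuleCat.{u} R} (g : M ⟶ N) (U : (Spec R).Opens) (m : M) :
    (ab.map g).hom.app (op U) (tilde.toOpen M U m) = tilde.toOpen N U (g m) :=
  ConcreteCategory.congr_hom (tilde.toOpen_map_app g U) m

theorem toOpen_top_surjective (M : ModuleCat.{u} R) (s : (ab.obj M).obj.obj (op ⊤)) :
    ∃ m : M, tilde.toOpen M ⊤ m = s :=
  ((ConcreteCategory.isIso_iff_bijective (tilde.toOpen M ⊤)).1 inferInstance).2 s

theorem res_toOpen {M : ModuleCat.{u} R} {U V : (Spec R).Opens} (h : V ≤ U) (m : M) :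
    (ab.obj M).obj.map (homOfLE h).op (tilde.toOpen M U m) = tilde.toOpen M V m :=
  ConcreteCategory.congr_hom (tilde.toOpen_res M U V (homOfLE h)) m

theorem sect0_map {M N : ModuleCat.{u} R} (g : M ⟶ N) (U : (Spec R).Opens)
    (x : LocCohZ.HZc (ab.obj M) 0 U) :
    (LocCohZ.sect0Equiv _ (le_top : U ≤ ⊤) (LocCohZ.map (ab.map g) 0 _ x)).1 =
      (ab.map g).hom.app (op ⊤) (LocCohZ.sect0Equiv _ (le_top : U ≤ ⊤) x).1 := by
  obtain ⟨φ, rfl⟩ := Abelian.Ext.addEquiv₀.symm.surjective x
  have e : LocCohZ.map (ab.map g) 0 (le_top : U ≤ ⊤) (Abelian.Ext.addEquiv₀.symm φ) =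
      Abelian.Ext.addEquiv₀.symm (φ ≫ ab.map g) := Abelian.Ext.mk₀_comp_mk₀ _ _
  rw [e]
  change CohFree.evalGen (Opens.grothendieckTopology (Spec R).carrier) ⊤ (ab.obj N)
      (cokernel.π _ ≫ Abelian.Ext.addEquiv₀ (Abelian.Ext.addEquiv₀.symm (φ ≫ ab.map g))) =
    (ab.map g).hom.app (op ⊤) (CohFree.evalGen (Opens.grothendieckTopology (Spec R).carrier) ⊤ (ab.obj M)
      (cokernel.π _ ≫ Abelian.Ext.addEquiv₀ (Abelian.Ext.addEquiv₀.symm φ)))
  rw [AddEquiv.apply_symm_apply, AddEquiv.apply_symm_apply]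
  rfl

variable [IsNoetherianRing R] {U : (Spec R).Opens}

theorem exists_pow_map_eq_zero {f : R} (hf : PrimeSpectrum.basicOpen f ≤ U) (i : ℕ) :
    ∀ (M : ModuleCat.{u} R) (x : LocCohZ.HZc (ab.obj M) i U),
      ∃ k : ℕ, LocCohZ.map (ab.map (mulEnd (f ^ k) M)) i (le_top : U ≤ ⊤) x = 0 := by
  induction i with
  | zero =>
    intro M x
    obtain ⟨m, hm⟩ := toOpen_top_surjective M (LocCohZ.sect0Equiv _ (le_top : U ≤ ⊤) x).1
    have hv := (LocCohZ.sect0Equiv _ (le_top : U ≤ ⊤) x).2
    rw [AddMonoidHom.mem_ker, ← hm, res_toOpen] at hv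
    let B : (Spec R).Opens := PrimeSpectrum.basicOpen f
    have h0 : tilde.toOpen M B m = 0 := by
      have := congrArg ((ab.obj M).obj.map (homOfLE hf).op) hv
      exact (res_toOpen (M := M) (U := U) (V := B) hf m).symm.trans (this.trans (map_zero _))
    obtain ⟨⟨_, k, rfl⟩, hk⟩ := (IsLocalizedModule.eq_zero_iff (.powers f)
      (tilde.toOpen M (PrimeSpectrum.basicOpen f)).hom).mp h0
    refine ⟨k, (LocCohZ.sect0Equiv _ (le_top : U ≤ ⊤)).injective (Subtype.ext ?_)⟩
    rw [sect0_map, ← hm, app_toOpen, map_zero]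
    change tilde.toOpen M ⊤ (f ^ k • m) = 0
    rw [show f ^ k • m = 0 from hk, map_zero]
  | succ i ih =>
    intro M x
    let ι : M ⟶ Injective.under M := Injective.ι M
    let S : ShortComplex (ModuleCat.{u} R) := ShortComplex.mk ι (cokernel.π ι) (cokernel.condition ι)
    have hS : S.ShortExact :=
      { exact := ShortComplex.exact_of_g_is_cokernel _ (cokernelIsCokernel ι)
        mono_f := inferInstanceAs (Mono ι)
        epi_g := inferInstanceAs (Epi (cokernel.π ι)) }
    have hE' : Injective (ModuleCat.of R (Injective.under M : ModuleCat.{u} R)) := Injective.injective_under M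
    have hE : Module.Injective R (Injective.under M : ModuleCat.{u} R) :=
      Module.injective_module_of_injective_object R (Injective.under M : ModuleCat.{u} R)
    have : TopCat.Sheaf.IsFlasque (ab.obj (Injective.under M)) := isFlasque_tilde (Injective.under M)
    have := LocZ.subsingleton_HZ_of_flasque (ab.obj (Injective.under M)) (le_top : U ≤ ⊤) (n := i)
    obtain ⟨q, hq⟩ := Abelian.Ext.covariant_sequence_exact₁ _ (ab_shortExact S hS) x
      (Subsingleton.elim (α := LocCohZ.HZ (ab.obj (Injective.under M)) (i + 1) (le_top : U ≤ ⊤)) _ _)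
      (rfl : i + 1 = i + 1)
    obtain ⟨k, hk⟩ := ih S.X₃ q
    refine ⟨k, ?_⟩
    let φ : S ⟶ S := ShortComplex.homMk (mulEnd (f ^ k) _) (mulEnd (f ^ k) _) (mulEnd (f ^ k) _)
      (by simp [mulEnd]) (by simp [mulEnd])
    have hn := ShortComplex.ShortExact.extClass_naturality (ab_shortExact S hS) (ab_shortExact S hS)
      (ab.mapShortComplex.map φ)
    rw [← hq]
    change (q.comp _ _).comp (Abelian.Ext.mk₀ (ab.map φ.τ₁)) (add_zero _) = 0
    refine (Abelian.Ext.comp_assoc q _ _ rfl (add_zero 1) (by omega)).trans ?_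
    refine (congrArg (fun z => q.comp z (rfl : i + 1 = i + 1)) hn).trans ?_
    refine (Abelian.Ext.comp_assoc q _ _ (add_zero i) (zero_add 1) (by omega)).symm.trans ?_
    exact (congrArg (fun z => z.comp (ab_shortExact S hS).extClass (rfl : i + 1 = i + 1)) hk).trans
      (Abelian.Ext.zero_comp ..)

theorem eq_zero_of_injective {f : R} (hf : PrimeSpectrum.basicOpen f ≤ U) {M : ModuleCat.{u} R} {i : ℕ}
    (hinj : Function.Injective (LocCohZ.map (ab.map (mulEnd f M)) i (le_top : U ≤ ⊤)))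
    (x : LocCohZ.HZc (ab.obj M) i U) : x = 0 := by
  obtain ⟨k, hk⟩ := exists_pow_map_eq_zero hf i M x
  clear hf
  induction k generalizing x with
  | zero =>
    have e : mulEnd (f ^ 0) M = 𝟙 M := by simp [mulEnd]
    rw [e, ab.map_id] at hk
    exact (Abelian.Ext.comp_mk₀_id x).symm.trans hk
  | succ k ih =>
    refine hinj ((ih _ ?_).trans (map_zero _).symm)
    have e : mulEnd (f ^ (k + 1)) M = mulEnd f M ≫ mulEnd (f ^ k) M := by
      simp [mulEnd, smul_smul, pow_succ, mul_comm]
    rw [e, ab.map_comp] at hk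
    refine Eq.trans ?_ hk
    change (x.comp (Abelian.Ext.mk₀ (ab.map (mulEnd f M))) (add_zero i)).comp
      (Abelian.Ext.mk₀ (ab.map (mulEnd (f ^ k) M))) (add_zero i) = _
    rw [Abelian.Ext.comp_assoc_of_third_deg_zero, Abelian.Ext.mk₀_comp_mk₀]
    rfl

/-- The sequence of multiplication by a regular element. -/
noncomputable def mulSeq (f : R) (M : ModuleCat.{u} R) : ShortComplex (ModuleCat.{u} R) :=
  ShortComplex.mk (mulEnd f M) (ModuleCat.ofHom (Submodule.mkQ (f • (⊤ : Submodule R M)))) (by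
    ext m
    exact (Submodule.Quotient.mk_eq_zero _).2 (Submodule.smul_mem_pointwise_smul m f _ trivial))

omit [IsNoetherianRing R] in
theorem mulSeq_shortExact {f : R} {M : ModuleCat.{u} R} (hf : IsSMulRegular M f) :
    (mulSeq f M).ShortExact where
  exact := by
    rw [ShortComplex.moduleCat_exact_iff]
    intro m hm
    obtain ⟨m', -, rfl⟩ := (Submodule.mem_smul_pointwise_iff_exists _ _ _).1
      ((Submodule.Quotient.mk_eq_zero (f • (⊤ : Submodule R M))).1 hm)
    exact ⟨m', rfl⟩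
  mono_f := (ModuleCat.mono_iff_injective _).2 hf
  epi_g := (ModuleCat.epi_iff_surjective _).2 (Submodule.mkQ_surjective _)

variable {I : Ideal R} (hU : (U : Set (Spec R))ᶜ = PrimeSpectrum.zeroLocus (I : Set R))
include hU

omit [IsNoetherianRing R] in
theorem basicOpen_le {f : R} (hf : f ∈ I) : PrimeSpectrum.basicOpen f ≤ U := fun x hx => by
  by_contra hne
  have : x ∈ (U : Set (Spec R))ᶜ := hne
  rw [hU] at this
  exact hx (this hf)

theorem subsingleton_of_isWeaklyRegular (fs : List R) : ∀ (M : ModuleCat.{u} R),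
    (∀ f ∈ fs, f ∈ I) → RingTheory.Sequence.IsWeaklyRegular M fs → ∀ i < fs.length,
      Subsingleton (LocCohZ.HZc (ab.obj M) i U) := by
  induction fs with
  | nil => exact fun M _ _ i hi => absurd hi (Nat.not_lt_zero i)
  | cons f fs ih =>
    intro M hmem hreg i hi
    rw [RingTheory.Sequence.isWeaklyRegular_cons_iff] at hreg
    have hle := basicOpen_le hU (hmem f List.mem_cons_self)
    have hS := ab_shortExact _ (mulSeq_shortExact hreg.1)
    refine ⟨fun a b => sub_eq_zero.1 (eq_zero_of_injective hle ?_ (a - b))⟩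
    rw [injective_iff_map_eq_zero]
    intro x hx
    cases i with
    | zero =>
      have := hS.mono_f
      exact Abelian.Ext.postcomp_mk₀_injective_of_mono (LocCohZ.zq (le_top : U ≤ ⊤))
        ((mulSeq f M).map ab).f (hx.trans (map_zero _).symm)
    | succ i =>
      obtain ⟨q, hq⟩ := Abelian.Ext.covariant_sequence_exact₁ _ hS x hx (rfl : i + 1 = i + 1)
      have : Subsingleton (LocCohZ.HZc (ab.obj (ModuleCat.of R (QuotSMulTop f M))) i U) :=
        ih _ (fun g hg => hmem g (List.mem_cons_of_mem _ hg)) hreg.2 i (Nat.lt_of_succ_lt_succ hi)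
      have hq0 : q = 0 := Subsingleton.elim (α := LocCohZ.HZc (ab.obj (ModuleCat.of R (QuotSMulTop f M))) i U) q 0
      rw [← hq, hq0, Abelian.Ext.zero_comp]
      rfl

theorem exists_regular (M : ModuleCat.{u} R) [Module.Finite R M]
    (h : Subsingleton (LocCohZ.HZc (ab.obj M) 0 U)) : ∃ f ∈ I, IsSMulRegular M f := by
  by_contra hne
  push Not at hne
  have hsub : (I : Set R) ⊆ ⋃ P ∈ associatedPrimes R M, (P : Set R) := by
    rw [biUnion_associatedPrimes_eq_compl_regular]
    exact hne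
  obtain ⟨P, hP, hle⟩ := (Ideal.subset_union_prime_finite (associatedPrimes.finite R M) ⊤ ⊤
    (fun P hP _ _ => hP.isPrime)).mp hsub
  obtain ⟨m, hm⟩ := isAssociatedPrime_iff.mp hP |>.2
  have hm0 : m ≠ 0 := fun h0 => hP.isPrime.ne_top (by
    rw [hm, eq_top_iff]
    intro r _
    simp [h0, Submodule.mem_colon_singleton])
  have hkill : ∀ g ∈ I, g • m = 0 := fun g hg => by
    have : g ∈ (⊥ : Submodule R M).colon {m} := hm ▸ hle hg
    simpa [Submodule.mem_colon_singleton] using this
  have hcov : U ≤ ⨆ g : I, PrimeSpectrum.basicOpen (g : R) := fun x hx => by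
    by_contra hne
    have : x ∈ PrimeSpectrum.zeroLocus (I : Set R) := fun g hg => by
      by_contra hgx
      exact hne (Opens.mem_iSup.2 ⟨⟨g, hg⟩, hgx⟩)
    rw [← hU] at this
    exact this hx
  have hs : (ab.obj M).obj.map (homOfLE (le_top : U ≤ ⊤)).op (tilde.toOpen M ⊤ m) = 0 := by
    rw [res_toOpen]
    refine TopCat.Sheaf.eq_of_locally_eq' (ab.obj M) (fun g : I => (PrimeSpectrum.basicOpen (g : R) ⊓ U : (Spec R).Opens)) U
      (fun g => homOfLE inf_le_right) (fun x hx => ?_) _ _ fun g => ?_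
    · obtain ⟨g, hg⟩ := Opens.mem_iSup.1 (hcov hx)
      exact Opens.mem_iSup.2 ⟨g, hg, hx⟩
    · rw [map_zero]
      refine (res_toOpen inf_le_right m).trans ?_
      refine (res_toOpen (M := M) (U := PrimeSpectrum.basicOpen (g : R)) inf_le_left m).symm.trans ?_
      have h1 : tilde.toOpen M (PrimeSpectrum.basicOpen (g : R)) m = 0 :=
        (IsLocalizedModule.eq_zero_iff (.powers (g : R))
          (tilde.toOpen M (PrimeSpectrum.basicOpen (g : R))).hom).mpr
          ⟨⟨g, 1, pow_one _⟩, hkill g g.2⟩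
      refine (congrArg _ h1).trans (map_zero _)
  let x : LocCohZ.HZc (ab.obj M) 0 U := (LocCohZ.sect0Equiv _ (le_top : U ≤ ⊤)).symm ⟨_, hs⟩
  have h2 := congrArg (fun z => (LocCohZ.sect0Equiv _ (le_top : U ≤ ⊤) z).1) (Subsingleton.elim x 0)
  simp only [x, AddEquiv.apply_symm_apply, map_zero] at h2
  exact hm0 (((ConcreteCategory.isIso_iff_bijective (tilde.toOpen M ⊤)).1 inferInstance).1
    (h2.trans (map_zero _).symm))

theorem exists_isWeaklyRegular (n : ℕ) : ∀ (M : ModuleCat.{u} R) [Module.Finite R M],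
    (∀ i < n, Subsingleton (LocCohZ.HZc (ab.obj M) i U)) →
      ∃ fs : List R, fs.length = n ∧ (∀ f ∈ fs, f ∈ I) ∧ RingTheory.Sequence.IsWeaklyRegular M fs := by
  induction n with
  | zero => exact fun M _ _ => ⟨[], rfl, by simp, RingTheory.Sequence.IsWeaklyRegular.nil R M⟩
  | succ n ih =>
    intro M _ h
    obtain ⟨f, hf, hreg⟩ := exists_regular hU M (h 0 n.succ_pos)
    have hS := ab_shortExact _ (mulSeq_shortExact hreg)
    obtain ⟨fs, hlen, hmem, hfs⟩ := ih (ModuleCat.of R (QuotSMulTop f M)) (fun i hi => ⟨fun a b => by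
      rw [← sub_eq_zero]
      generalize a - b = q
      have h1 : Subsingleton (Abelian.Ext (LocCohZ.zq (le_top : U ≤ ⊤)) ((mulSeq f M).map ab).X₁ (i + 1)) :=
        h (i + 1) (Nat.succ_lt_succ hi)
      have h0 : Subsingleton (Abelian.Ext (LocCohZ.zq (le_top : U ≤ ⊤)) ((mulSeq f M).map ab).X₂ i) :=
        h i (Nat.lt_succ_of_lt hi)
      obtain ⟨x, hx⟩ := Abelian.Ext.covariant_sequence_exact₃ _ hS q (rfl : i + 1 = i + 1) (Subsingleton.elim _ _)
      rw [← hx, Subsingleton.elim x 0, Abelian.Ext.zero_comp]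
      rfl⟩)
    exact ⟨f :: fs, by simp [hlen], by simpa [hf] using hmem,
      (RingTheory.Sequence.isWeaklyRegular_cons_iff _ _ _).2 ⟨hreg, hfs⟩⟩

end GrothLib.LocZ25
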