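import Groth.Agent.Lib.LocZ.Excision

/-!
# Cohomology with supports transported along homeomorphisms
-/

set_option autoImplicit false

universe u

open CategoryTheory Limits Opposite TopologicalSpace

namespace GrothLib.LocZ25

open GrothLib

variable {X Y : TopCat.{u}} (e : X ≅ Y)

theorem map_map_hom (V : Opens X) : (Opens.map e.hom).obj ((Opens.map e.inv).obj V) = V := by
  ext x
  change e.inv (e.hom x) ∈ V ↔ x ∈ V
  rw [Iso.hom_inv_id_apply]

theorem map_map_inv (V : Opens Y) : (Opens.map e.inv).obj ((Opens.map e.hom).obj V) = V := by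
  ext x
  change e.hom (e.inv x) ∈ V ↔ x ∈ V
  rw [Iso.inv_hom_id_apply]

/-- Direct image along a homeomorphism. -/
noncomputable def pushEquiv : CohTop.Ab X ≌ CohTop.Ab Y :=
  CategoryTheory.Equivalence.mk (CohTop.push e.hom) (CohTop.push e.inv)
    (NatIso.ofComponents
      (fun F => ObjectProperty.isoMk _ (NatIso.ofComponents
        (fun V => F.obj.mapIso (eqToIso (congrArg op (map_map_hom e V.unop).symm)))
        (fun {V W} k => (F.obj.map_comp _ _).symm.trans ((congrArg F.obj.map
          (Quiver.Hom.unop_inj (Subsingleton.elim _ _))).trans (F.obj.map_comp _ _)))))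
      (fun {F G} g => by
        ext V : 3
        exact (g.hom.naturality (eqToHom (congrArg op (map_map_hom e V.unop).symm))).symm))
    (NatIso.ofComponents
      (fun F => ObjectProperty.isoMk _ (NatIso.ofComponents
        (fun V => F.obj.mapIso (eqToIso (congrArg op (map_map_inv e V.unop))))
        (fun {V W} k => (F.obj.map_comp _ _).symm.trans ((congrArg F.obj.map
          (Quiver.Hom.unop_inj (Subsingleton.elim _ _))).trans (F.obj.map_comp _ _)))))
      (fun {F G} g => by
        ext V : 3
        exact (g.hom.naturality (eqToHom (congrArg op (map_map_inv e V.unop)))).symm))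

/-- Sections with supports of a direct image along a homeomorphism. -/
noncomputable def pushSectIso (U : Opens Y) :
    LocZ.sectZF (le_top : (Opens.map e.hom).obj U ≤ ⊤) ≅
      CohTop.push e.hom ⋙ LocZ.sectZF (le_top : U ≤ ⊤) :=
  NatIso.ofComponents (fun F => Iso.refl _) (fun {F G} g => by ext s; rfl)

/-- Cohomology with supports is invariant under homeomorphisms. -/
theorem subsingleton_HZc_push (F : CohTop.Ab X) (U : Opens Y) (i : ℕ)
    (h : Subsingleton (LocCohZ.HZc F i ((Opens.map e.hom).obj U))) :
    Subsingleton (LocCohZ.HZc ((CohTop.push e.hom).obj F) i U) := by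
  have : (CohTop.push e.hom).IsEquivalence := (pushEquiv e).isEquivalence_functor
  have : PreservesFiniteLimits (CohTop.push e.hom) := inferInstance
  have : PreservesFiniteColimits (CohTop.push e.hom) := inferInstance
  have hI : ∀ I : CohTop.Ab X, Injective I → Injective ((CohTop.push e.hom).obj I) := fun I hI =>
    ((pushEquiv e).map_injective_iff I).2 hI
  let iso := (LocZ.rightDerivedSectZFIso (le_top : (Opens.map e.hom).obj U ≤ ⊤) i).symm ≪≫
    SheafCoh.rightDerivedCongr (pushSectIso e U) i ≪≫
    (LocZ.rightDerivedPreExactIso (CohTop.push e.hom) hI _ i).symm ≪≫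
    Functor.isoWhiskerLeft (CohTop.push e.hom) (LocZ.rightDerivedSectZFIso (le_top : U ≤ ⊤) i)
  exact @Equiv.subsingleton _ _ (iso.app F).addCommGroupIsoToAddEquiv.symm.toEquiv h

end GrothLib.LocZ25
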