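import Groth.Agent.Lib.LocZ25.Affine
import Groth.Agent.Lib.LocZ25.Homeo
import Groth.Agent.Lib.Depth17.Global
import Groth.Agent.Lib.FiniteQuot.DepthDescent
import Groth.Agent.Lib.FlatFP.Sheaf
import Groth.Agent.Lib.QCoh.FT
import Groth.Agent.Lib.QCoh.Affine
import Groth.Agent.Lib.AssPts.Points
import Groth.Prelude.Def_SuppFam

/-!
# Depth and vanishing of local cohomology sheaves
-/

universe u

open CategoryTheory Limits Opposite TopologicalSpace AlgebraicGeometry

namespace GrothLib.LocZ25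

open GrothLib

/-- Vanishing of cohomology with supports can be checked on a basis. -/
theorem subsingleton_of_basis {X : TopCat.{u}} {U : Opens X} {B : Set (Opens X)}
    (hB : Opens.IsBasis B) (n : ℕ) (F : CohTop.Ab X)
    (h : ∀ W ∈ B, ∀ i < n, Subsingleton (LocCohZ.HZ F i (inf_le_left : W ⊓ U ≤ W))) :
    ∀ (V : Opens X) (i : ℕ), i < n → Subsingleton (LocCohZ.HZ F i (inf_le_left : V ⊓ U ≤ V)) := by
  intro V i
  induction i using Nat.strong_induction_on generalizing V with
  | _ i ih =>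
    intro hi
    refine ⟨fun a b => sub_eq_zero.1 ?_⟩
    generalize a - b = x
    let S : Sieve V :=
      { arrows := fun V' _ => ∃ W ∈ B, V' ≤ W ∧ W ≤ V
        downward_closed := fun {Y Z f} ⟨W, hW, h1, h2⟩ g => ⟨W, hW, g.le.trans h1, h2⟩ }
    refine LocZ.HZ_separated U i F (fun V' j hj => ih j hj V' (hj.trans hi)) V x ⟨S, ?_, ?_⟩
    · intro y hy
      obtain ⟨W, hW, hyW, hWV⟩ := Opens.isBasis_iff_nbhd.1 hB hy
      exact ⟨W, homOfLE hWV, ⟨W, hW, le_rfl, hWV⟩, hyW⟩
    · rintro V' f ⟨W, hW, h1, h2⟩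
      have := h W hW i hi
      refine (DFunLike.congr_fun (SuppFam.resZ_trans F i (inf_le_left : V ⊓ U ≤ V)
        (inf_le_left : W ⊓ U ≤ W) (inf_le_left : V' ⊓ U ≤ V') (inf_le_inf_right U h2) h2
        (inf_le_inf_right U h1) h1) x).symm.trans ?_
      rw [AddMonoidHom.comp_apply, Subsingleton.elim
        (LocCohZ.resZ F i (inf_le_left : V ⊓ U ≤ V) (inf_le_left : W ⊓ U ≤ W) (inf_le_inf_right U h2) h2 x) 0,
        map_zero]

theorem depth_localization_congr {A : Type u} [CommRing A] (p q : Ideal A) [p.IsPrime] [q.IsPrime] (h : p = q)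
    (N : Type u) [AddCommGroup N] [Module A N] :
    LocCoh.depth (Localization.AtPrime p) (LocalizedModule p.primeCompl N) =
      LocCoh.depth (Localization.AtPrime q) (LocalizedModule q.primeCompl N) := by
  subst h
  rfl

variable {X : Scheme.{u}} {W : X.Opens} (hW : IsAffineOpen W)

theorem image_incl_preimage (V : (Spec Γ(X, W)).Opens) :
    (SheafCoh.openFun (X := X.carrier) W).obj
        ((Opens.map (Scheme.forgetToTop.mapIso hW.isoSpec).hom).obj V) = hW.fromSpec ''ᵁ V := by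
  ext x
  constructor
  · rintro ⟨w, hw, rfl⟩
    exact ⟨hW.isoSpec.hom (w : W.toScheme), hw,
      congrArg (fun g : W.toScheme ⟶ X => g w) hW.isoSpec_hom_fromSpec⟩
  · rintro ⟨p, hp, rfl⟩
    refine ⟨hW.isoSpec.inv p, ?_, ?_⟩
    · change hW.isoSpec.hom (hW.isoSpec.inv p) ∈ V
      rw [← Scheme.Hom.comp_apply, Iso.inv_hom_id]
      exact hp
    · exact (congrArg (fun g : Spec Γ(X, W) ⟶ X => g p) hW.isoSpec_inv_ι)

/-- Restriction to an affine open, transported to its spectrum. -/
noncomputable def pushRestrIso (M : X.Modules) :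
    (CohTop.push (Scheme.forgetToTop.mapIso hW.isoSpec).hom).obj (CohTop.restr (X := X.carrier) (Coh.toAb M) W) ≅
      Coh.toAb (M.restrict hW.fromSpec) :=
  ObjectProperty.isoMk _ (NatIso.ofComponents
    (fun V => (Coh.toAb M).obj.mapIso (eqToIso (congrArg op (image_incl_preimage hW V.unop))))
    (fun {V V'} k => ((Coh.toAb M).obj.map_comp _ _).symm.trans ((congrArg (Coh.toAb M).obj.map
      (Quiver.Hom.unop_inj (Subsingleton.elim _ _))).trans ((Coh.toAb M).obj.map_comp _ _))))

theorem preimage_eq (U : X.Opens) :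
    (Opens.map (Scheme.forgetToTop.mapIso hW.isoSpec).hom).obj (hW.fromSpec ⁻¹ᵁ U) =
      (Opens.map (CohCx.incl (X := X.carrier) W)).obj (W ⊓ U) := by
  ext w
  have e : hW.fromSpec (hW.isoSpec.hom (w : W.toScheme)) = w.1 :=
    congrArg (fun g : W.toScheme ⟶ X => g w) hW.isoSpec_hom_fromSpec
  exact ⟨fun h => ⟨w.2, (congrArg (· ∈ U) e).mp h⟩, fun h => (congrArg (· ∈ U) e).mpr h.2⟩

theorem subsingleton_affine_iff (M : X.Modules) (U : X.Opens) (i : ℕ) :
    Subsingleton (LocCohZ.HZ (X := X.carrier) (Coh.toAb M) i (inf_le_left : W ⊓ U ≤ W)) ↔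
      Subsingleton (LocCohZ.HZc (Coh.toAb (M.restrict hW.fromSpec)) i (hW.fromSpec ⁻¹ᵁ U)) := by
  let e := Scheme.forgetToTop.mapIso hW.isoSpec
  let ex := ((LocZ.excisionIso W (inf_le_left : W ⊓ U ≤ W) i).app (Coh.toAb M)).addCommGroupIsoToAddEquiv
  let G := CohTop.restr (X := X.carrier) (Coh.toAb M) W
  constructor
  · intro h
    refine (LocZ.subsingleton_HZ_congr (pushRestrIso hW M) _ i).1 ?_
    refine subsingleton_HZc_push e G (hW.fromSpec ⁻¹ᵁ U) i ?_
    rw [preimage_eq]
    exact @Equiv.subsingleton _ _ ex.symm.toEquiv h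
  · intro h
    have h1 := (LocZ.subsingleton_HZ_congr (pushRestrIso hW M) _ i).2 h
    let U' := hW.fromSpec ⁻¹ᵁ U
    have h1' : Subsingleton (LocCohZ.HZc ((CohTop.push e.hom).obj G) i
        ((Opens.map e.inv).obj ((Opens.map e.hom).obj U'))) := by
      rw [map_map_inv e U']
      exact h1
    have h2 := subsingleton_HZc_push e.symm ((CohTop.push e.hom).obj G) ((Opens.map e.hom).obj U') i h1'
    have h3 := (LocZ.subsingleton_HZ_congr ((pushEquiv e).unitIso.app G) _ i).2 h2
    rw [preimage_eq] at h3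
    exact @Equiv.subsingleton _ _ ex.toEquiv h3

theorem primeAt_fromSpec (p : Spec Γ(X, W)) (hp : hW.fromSpec p ∈ W) :
    WeakAss.primeAt (hW.fromSpec p) hp = p.asIdeal := by
  exact congrArg PrimeSpectrum.asIdeal ((QCoh.primeAt_eq_primeIdealOf hW hp).trans
    (hW.fromSpec.isOpenEmbedding.injective (hW.fromSpec_primeIdealOf ⟨_, hp⟩)))

include hW in
theorem depth_stalk_eq (M : X.Modules) [M.IsQuasicoherent] {x : X} (hx : x ∈ W) :
    LocCoh.depth (X.presheaf.stalk x) (M.presheaf.stalk x) =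
      LocCoh.depth (Localization.AtPrime (WeakAss.primeAt x hx))
        (LocalizedModule (WeakAss.primeAt x hx).primeCompl Γ(M, W)) := by
  let S := (WeakAss.primeAt x hx).primeCompl
  letI := X.presheaf.algebra_section_stalk ⟨x, hx⟩
  letI : Module Γ(X, W) (M.presheaf.stalk x) := Module.compHom _ (X.presheaf.germ W x hx).hom
  have : IsScalarTower Γ(X, W) (X.presheaf.stalk x) (M.presheaf.stalk x) :=
    IsScalarTower.of_algebraMap_smul fun _ _ => rfl
  have := FlatFP.isLocalization_stalk_primeAt hW hx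
  obtain ⟨g, hg, -⟩ := FlatFP.isLocalizedModule_germ M hW hx
  let σ : Localization.AtPrime (WeakAss.primeAt x hx) ≃ₐ[Γ(X, W)] X.presheaf.stalk x :=
    IsLocalization.algEquiv S _ _
  let e : LocalizedModule S Γ(M, W) ≃ₗ[Γ(X, W)] M.presheaf.stalk x :=
    IsLocalizedModule.linearEquiv S (LocalizedModule.mkLinearMap S Γ(M, W)) g
  have he : ∀ (r : Localization.AtPrime (WeakAss.primeAt x hx)) (m), e (r • m) = σ r • e m := by
    intro r m
    obtain ⟨a, s, rfl⟩ := IsLocalization.exists_mk'_eq S r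
    apply ((IsLocalization.map_units (X.presheaf.stalk x) s).smul_left_cancel).1
    have h1 : algebraMap Γ(X, W) _ (s : Γ(X, W)) * IsLocalization.mk' (Localization.AtPrime (WeakAss.primeAt x hx)) a s =
        algebraMap Γ(X, W) _ a := IsLocalization.mk'_spec' _ a s
    calc algebraMap Γ(X, W) (X.presheaf.stalk x) s • e (IsLocalization.mk' _ a s • m)
        = (s : Γ(X, W)) • e (IsLocalization.mk' _ a s • m) := algebraMap_smul _ _ _
      _ = e ((s : Γ(X, W)) • IsLocalization.mk' _ a s • m) := (e.map_smul _ _).symm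
      _ = e (a • m) := by rw [← algebraMap_smul (Localization.AtPrime (WeakAss.primeAt x hx)) (s : Γ(X, W))
            (IsLocalization.mk' _ a s • m), smul_smul, h1, algebraMap_smul]
      _ = a • e m := e.map_smul _ _
      _ = σ (algebraMap Γ(X, W) _ a) • e m := by rw [σ.commutes, algebraMap_smul]
      _ = _ := by rw [← h1, map_mul, σ.commutes, mul_smul]
  unfold LocCoh.depth
  rw [FiniteQuot.idealDepth_congr σ.toRingEquiv e.toAddEquiv he]
  exact congrArg (fun I => LocCoh.idealDepth I (M.presheaf.stalk x))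
    (IsLocalRing.eq_maximalIdeal (Ideal.map_isMaximal_of_equiv σ.toRingEquiv)).symm

/-- Sections over an affine open as a module over the ring. -/
theorem main [IsLocallyNoetherian X] (M : X.Modules) (hM : Coh.IsCoh M) (U : X.Opens) (n : ℕ) :
    (∀ i : ℕ, i < n → IsZero ((LocCohZ.HZsh (X := X.carrier) U i).obj (Coh.toAb M))) ↔
      ∀ x : X, x ∉ (U : Set X) →
        (n : ℕ∞) ≤ LocCoh.depth (X.presheaf.stalk x) (M.presheaf.stalk x) := by
  have := hM.1
  have key : ∀ (W : X.Opens) (hW : IsAffineOpen W),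
      (∀ i < n, Subsingleton (LocCohZ.HZ (X := X.carrier) (Coh.toAb M) i (inf_le_left : W ⊓ U ≤ W))) ↔
        ∀ (x : X) (hx : x ∈ W), x ∉ U → (n : ℕ∞) ≤ LocCoh.depth (X.presheaf.stalk x) (M.presheaf.stalk x) := by
    intro W hW
    have : IsNoetherianRing Γ(X, W) := IsLocallyNoetherian.component_noetherian ⟨W, hW⟩
    have hfin : Module.Finite Γ(X, W) Γ(M, W) := QCoh.moduleFinite_of_isFiniteType M hM.2 hW
    let U' : (Spec Γ(X, W)).Opens := hW.fromSpec ⁻¹ᵁ U
    let I : Ideal Γ(X, W) := PrimeSpectrum.vanishingIdeal ((U' : Set (Spec Γ(X, W)))ᶜ)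
    have hU : (U' : Set (Spec Γ(X, W)))ᶜ = PrimeSpectrum.zeroLocus (I : Set Γ(X, W)) := by
      rw [PrimeSpectrum.zeroLocus_vanishingIdeal_eq_closure]
      exact U'.2.isClosed_compl.closure_eq.symm
    let N : ModuleCat Γ(X, W) := (modulesSpecToSheaf.obj (M.restrict hW.fromSpec)).presheaf.obj (.op ⊤)
    let eN : N ≃ₗ[Γ(X, W)] Γ(M, W) :=
      { QCoh.secIso hW M ⊤ (QCoh.image_top hW) with
        map_smul' := QCoh.secIso_top_smul hW M }
    have : Module.Finite Γ(X, W) N := Module.Finite.equiv eN.symm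
    have : IsIso (M.restrict hW.fromSpec).fromTildeΓ :=
      (QCoh.isIso_fromTildeΓ_restrict_iff hW M).2 (fun g => QCoh.smulLift_and_smulSep_of_isAffineOpen hW M g)
    let iM : tilde N ≅ M.restrict hW.fromSpec := asIso (M.restrict hW.fromSpec).fromTildeΓ
    have hsub : ∀ i, Subsingleton (LocCohZ.HZ (X := X.carrier) (Coh.toAb M) i (inf_le_left : W ⊓ U ≤ W)) ↔
        Subsingleton (LocCohZ.HZc (ab.obj N) i U') := fun i =>
      (subsingleton_affine_iff hW M U i).trans
        (LocZ.subsingleton_HZ_congr ((QCoh.toAbFun (Spec Γ(X, W))).mapIso iM) _ i).symm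
    have hreg : (∀ i < n, Subsingleton (LocCohZ.HZc (ab.obj N) i U')) ↔
        ∃ fs : List Γ(X, W), fs.length = n ∧ (∀ f ∈ fs, f ∈ I) ∧
          RingTheory.Sequence.IsWeaklyRegular Γ(M, W) fs := by
      constructor
      · intro h
        obtain ⟨fs, h1, h2, h3⟩ := exists_isWeaklyRegular hU n N h
        exact ⟨fs, h1, h2, (eN.isWeaklyRegular_congr fs).1 h3⟩
      · rintro ⟨fs, h1, h2, h3⟩ i hi
        exact subsingleton_of_isWeaklyRegular hU fs N h2 ((eN.isWeaklyRegular_congr fs).2 h3) i (h1 ▸ hi)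
    have hmem : ∀ p : Spec Γ(X, W), I ≤ p.asIdeal ↔ hW.fromSpec p ∉ U := fun p => by
      change p ∈ PrimeSpectrum.zeroLocus (I : Set Γ(X, W)) ↔ _
      rw [← hU]
      rfl
    refine (forall₂_congr fun i _ => hsub i).trans (hreg.trans ?_)
    rw [← Depth17.depth_ge_iff' I n]
    constructor
    · intro h x hx hxU
      rw [depth_stalk_eq hW M hx]
      refine h _ ?_
      rw [show WeakAss.primeAt x hx = _ from congrArg PrimeSpectrum.asIdeal (QCoh.primeAt_eq_primeIdealOf hW hx)]
      exact (hmem _).2 (by rw [hW.fromSpec_primeIdealOf ⟨x, hx⟩]; exact hxU)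
    · intro h p hp hle
      let P : Spec Γ(X, W) := ⟨p, hp⟩
      have hPW : hW.fromSpec P ∈ W := hW.range_fromSpec.le ⟨P, rfl⟩
      have h1 := h _ hPW ((hmem P).1 hle)
      rw [depth_stalk_eq hW M hPW] at h1
      exact h1.trans_eq (depth_localization_congr _ _ (primeAt_fromSpec hW P hPW) Γ(M, W))
  rw [LocZ.isZero_HZsh_lt_iff]
  constructor
  · intro h x hx
    obtain ⟨_, ⟨W, hW, rfl⟩, hxW, -⟩ :=
      X.isBasis_affineOpens.exists_subset_of_mem_open (Set.mem_univ x) isOpen_univ
    exact (key W hW).1 (fun i hi => h W i hi) x hxW hx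
  · intro h
    exact subsingleton_of_basis X.isBasis_affineOpens n (Coh.toAb M) fun W hW i hi =>
      (key W hW).2 (fun x _ hx => h x hx) i hi

end GrothLib.LocZ25
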