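import Mathlib.AlgebraicGeometry.Modules.Tilde
import Mathlib.RingTheory.Filtration
import Mathlib.Topology.Sheaves.Flasque
import Mathlib.Algebra.Module.Injective
import Groth.Prelude.Def_Coh

/-!
# The sheaf of an injective module on a Noetherian affine scheme is flasque
-/

universe u

open CategoryTheory Limits Opposite TopologicalSpace AlgebraicGeometry

namespace GrothLib.LocZ25

/-- Compatible fractions in an injective module come from an element. -/
theorem exists_extension {A E : Type u} [CommRing A] [IsNoetherianRing A] [AddCommGroup E] [Module A E]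
    [Module.Injective A E] {ι : Type u} [Fintype ι] (g : ι → A) (n : ℕ) (m : ι → E)
    (h : ∀ i j, g j ^ n • m i = g i ^ n • m j) :
    ∃ (N : ℕ) (e : E), ∀ i, g i ^ (N + n) • e = g i ^ N • m i := by
  classical
  let L₀ : (ι → A) →ₗ[A] A :=
    ∑ i, (LinearMap.proj i : (ι → A) →ₗ[A] A).smulRight (g i ^ n)
  let T₀ : (ι → A) →ₗ[A] E := ∑ i, (LinearMap.proj i : (ι → A) →ₗ[A] A).smulRight (m i)
  have hL₀ : ∀ a, L₀ a = ∑ i, a i * g i ^ n := fun a => by simp [L₀]
  have hT₀ : ∀ a, T₀ a = ∑ i, a i • m i := fun a => by simp [T₀]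
  let J : Ideal A := Ideal.span (Set.range fun i => g i ^ n)
  have hker : J • LinearMap.ker L₀ ≤ LinearMap.ker T₀ := by
    rw [Submodule.smul_le]
    intro r hr b hb
    rw [LinearMap.mem_ker, map_smul]
    induction hr using Submodule.span_induction with
    | mem x hx =>
      obtain ⟨j, rfl⟩ := hx
      rw [LinearMap.mem_ker, hL₀] at hb
      rw [hT₀, Finset.smul_sum]
      refine (Finset.sum_congr rfl fun i _ => ?_).trans
        ((Finset.sum_smul (f := fun i => b i * g i ^ n) (x := m j) (s := Finset.univ)).symm.trans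
          (by rw [hb, zero_smul]))
      rw [smul_comm, h, smul_smul]
    | zero => exact zero_smul _ _
    | add x y _ _ hx hy => rw [add_smul, hx, hy, add_zero]
    | smul a x _ hx => rw [smul_assoc, hx, smul_zero]
  obtain ⟨k₀, hk₀⟩ := J.exists_pow_inf_eq_pow_smul (LinearMap.ker L₀)
  let N := n * (k₀ + 1)
  let S : (ι → A) →ₗ[A] (ι → A) :=
    LinearMap.pi fun i => (g i ^ N) • (LinearMap.proj i : (ι → A) →ₗ[A] A)
  have hS : ∀ a i, S a i = g i ^ N * a i := fun a i => rfl
  have hle : LinearMap.ker (L₀ ∘ₗ S) ≤ LinearMap.ker (T₀ ∘ₗ S) := by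
    intro a ha
    refine hker ?_
    have h1 : S a ∈ J ^ (k₀ + 1) • (⊤ : Submodule A (ι → A)) := by
      rw [pi_eq_sum_univ (S a)]
      refine Submodule.sum_mem _ fun i _ => Submodule.smul_mem_smul ?_ Submodule.mem_top
      rw [hS, show N = n * (k₀ + 1) from rfl, pow_mul]
      exact Ideal.mul_mem_right _ _ (Ideal.pow_mem_pow (Ideal.subset_span (Set.mem_range_self i)) _)
    have h2 : S a ∈ J ^ (k₀ + 1) • (⊤ : Submodule A (ι → A)) ⊓ LinearMap.ker L₀ := ⟨h1, ha⟩
    rw [hk₀ (k₀ + 1) (Nat.le_succ _), Nat.add_sub_cancel_left, pow_one] at h2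
    exact Submodule.smul_mono le_rfl inf_le_right h2
  let f : LinearMap.range (L₀ ∘ₗ S) →ₗ[A] E :=
    (Submodule.liftQ _ (T₀ ∘ₗ S) hle).comp (L₀ ∘ₗ S).quotKerEquivRange.symm.toLinearMap
  obtain ⟨F, hF⟩ := Module.Injective.out (LinearMap.range (L₀ ∘ₗ S)).subtype (Submodule.injective_subtype _) f
  refine ⟨N, F 1, fun i => ?_⟩
  have h3 : (L₀ ∘ₗ S) (Pi.single i 1) = g i ^ (N + n) := by
    rw [LinearMap.comp_apply, hL₀, Finset.sum_eq_single i]
    · rw [hS, Pi.single_eq_same, mul_one, ← pow_add]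
    · intro j _ hj
      rw [hS, Pi.single_eq_of_ne hj, mul_zero, zero_mul]
    · exact fun hi => absurd (Finset.mem_univ i) hi
  have h4 := hF ⟨_, LinearMap.mem_range_self (L₀ ∘ₗ S) (Pi.single i 1)⟩
  rw [Submodule.subtype_apply, ← map_smul, smul_eq_mul, mul_one] at *
  rw [← h3]
  refine h4.trans ?_
  refine (congrArg (Submodule.liftQ _ (T₀ ∘ₗ S) hle)
    ((L₀ ∘ₗ S).quotKerEquivRange_symm_apply_image (Pi.single i 1) _)).trans ?_
  change T₀ (S (Pi.single i 1)) = _
  rw [hT₀, Finset.sum_eq_single i]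
  · rw [hS, Pi.single_eq_same, mul_one]
  · intro j _ hj
    rw [hS, Pi.single_eq_of_ne hj, mul_zero, zero_smul]
  · exact fun hi => absurd (Finset.mem_univ i) hi

variable {R : CommRingCat.{u}} [IsNoetherianRing R]

theorem tilde_res_surjective (E : ModuleCat.{u} R) [Module.Injective R E] (U : (Spec R).Opens)
    (s : (modulesSpecToSheaf.obj (tilde E)).presheaf.obj (op U)) :
    ∃ e : E, tilde.toOpen E U e = s := by
  classical
  let P := (modulesSpecToSheaf.obj (tilde E)).presheaf
  let B : R → (Spec R).Opens := fun r => PrimeSpectrum.basicOpen r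
  obtain ⟨fs, hfs⟩ : ∃ fs : Set R, U = ⨆ f : fs, B (f : R) ∧ fs.Finite := by
    obtain ⟨t, ht, hU⟩ := (isCompact_open_iff_eq_finite_iUnion_of_isTopologicalBasis _
      PrimeSpectrum.isTopologicalBasis_basic_opens PrimeSpectrum.isCompact_basicOpen _).mp
      ⟨NoetherianSpace.isCompact (U : Set (Spec R)), U.2⟩
    exact ⟨t, Opens.ext (by rw [hU, Opens.coe_iSup]; exact Set.biUnion_eq_iUnion t _), ht⟩
  obtain ⟨hU, hfin⟩ := hfs
  have : Fintype fs := hfin.fintype
  have hle : ∀ f : fs, B (f : R) ≤ U := fun f => hU ▸ le_iSup_of_le f le_rfl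
  have hfrac : ∀ f : fs, ∃ (n : ℕ) (m : E),
      tilde.toOpen E (B (f : R)) m = (f : R) ^ n • P.map (homOfLE (hle f)).op s := fun f => by
    obtain ⟨⟨m, ⟨_, n, rfl⟩⟩, hm⟩ := IsLocalizedModule.surj (.powers (f : R))
      (tilde.toOpen E (B (f : R))).hom (P.map (homOfLE (hle f)).op s)
    exact ⟨n, m, hm.symm⟩
  choose nf mf hmf using hfrac
  let n := Finset.univ.sup nf
  have hn : ∀ f, nf f ≤ n := fun f => Finset.le_sup (Finset.mem_univ f)
  let m₁ : fs → E := fun f => (f : R) ^ (n - nf f) • mf f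
  have hm₁ : ∀ f : fs, tilde.toOpen E (B (f : R)) (m₁ f) =
      (f : R) ^ n • P.map (homOfLE (hle f)).op s := fun f => by
    refine ((tilde.toOpen E _).hom.map_smul _ _).trans ((congrArg _ (hmf f)).trans ?_)
    rw [smul_smul, ← pow_add, Nat.sub_add_cancel (hn f)]
  have hcompat : ∀ f g : fs, ∃ k : ℕ,
      ((f : R) * g) ^ k • ((g : R) ^ n • m₁ f) = ((f : R) * g) ^ k • ((f : R) ^ n • m₁ g) := fun f g => by
    have h1 : B ((f : R) * g) ≤ B (f : R) :=
      PrimeSpectrum.basicOpen_mul_le_left _ _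
    have h2 : B ((f : R) * g) ≤ B (g : R) :=
      PrimeSpectrum.basicOpen_mul_le_right _ _
    have e : ∀ (c : fs) (hc : B ((f : R) * g) ≤ B (c : R)),
        tilde.toOpen E (B ((f : R) * g)) (m₁ c) =
          (c : R) ^ n • P.map (homOfLE (hc.trans (hle c))).op s := fun c hc => by
      refine (ConcreteCategory.congr_hom (tilde.toOpen_res E (B (c : R)) _ (homOfLE hc)) (m₁ c)).symm.trans ?_
      refine (congrArg (P.map (homOfLE hc).op) (hm₁ c)).trans ((map_smul _ _ _).trans (congrArg _ ?_))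
      exact (ConcreteCategory.congr_hom (P.map_comp _ _) s).symm
    obtain ⟨⟨_, k, rfl⟩, hk⟩ := (IsLocalizedModule.eq_iff_exists (.powers ((f : R) * g))
      (tilde.toOpen E (B ((f : R) * g))).hom).mp
      (show tilde.toOpen E _ ((g : R) ^ n • m₁ f) = tilde.toOpen E _ ((f : R) ^ n • m₁ g) by
        refine ((tilde.toOpen E _).hom.map_smul _ _).trans (Eq.trans ?_ ((tilde.toOpen E _).hom.map_smul _ _).symm)
        refine (congrArg _ (e f h1)).trans (Eq.trans ?_ (congrArg _ (e g h2)).symm)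
        exact smul_comm _ _ _)
    exact ⟨k, hk⟩
  choose k hk using hcompat
  let K := Finset.univ.sup fun p : fs × fs => k p.1 p.2
  let m₂ : fs → E := fun f => (f : R) ^ K • m₁ f
  have hm₂ : ∀ f g : fs, (g : R) ^ (n + K) • m₂ f = (f : R) ^ (n + K) • m₂ g := fun f g => by
    have hle' : k f g ≤ K := Finset.le_sup (f := fun p : fs × fs => k p.1 p.2) (Finset.mem_univ (f, g))
    have := congrArg (((f : R) * g) ^ (K - k f g) • ·) (hk f g)
    simp only [smul_smul, ← mul_assoc, ← pow_add, Nat.sub_add_cancel hle'] at this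
    simp only [m₂, smul_smul]
    calc ((g : R) ^ (n + K) * (f : R) ^ K) • m₁ f = (((f : R) * g) ^ K * (g : R) ^ n) • m₁ f := by
          congr 1; ring
      _ = (((f : R) * g) ^ K * (f : R) ^ n) • m₁ g := this
      _ = _ := by congr 1; ring
  obtain ⟨N, e, he⟩ := exists_extension (fun f : fs => (f : R)) (n + K) m₂ hm₂
  refine ⟨e, ?_⟩
  refine TopCat.Sheaf.eq_of_locally_eq' (modulesSpecToSheaf.obj (tilde E))
    (fun f : fs => B (f : R)) U (fun f => homOfLE (hle f)) hU.le _ _ fun f => ?_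
  refine (ConcreteCategory.congr_hom (tilde.toOpen_res E _ _ (homOfLE (hle f))) e).trans ?_
  apply (tilde E).isSMulRegular_of_le_basicOpen (le_refl (B (f : R))) |>.pow (N + (n + K))
  change (f : R) ^ (N + (n + K)) • _ = (f : R) ^ (N + (n + K)) • P.map (homOfLE (hle f)).op s
  refine ((tilde.toOpen E _).hom.map_smul _ _).symm.trans ((congrArg (fun z => tilde.toOpen E (B (f : R)) z) (he f)).trans ?_)
  refine ((tilde.toOpen E _).hom.map_smul _ _).trans ?_
  refine (congrArg ((f : R) ^ N • ·) (((tilde.toOpen E _).hom.map_smul _ _).trans (congrArg _ (hm₁ f)))).trans ?_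
  rw [smul_smul, smul_smul, ← pow_add, ← pow_add]
  congr 2
  omega

theorem isFlasque_tilde (E : ModuleCat.{u} R) [Module.Injective R E] :
    TopCat.Sheaf.IsFlasque (Coh.toAb (tilde E)) := by
  refine ⟨fun {U V} i => ?_⟩
  rw [AddCommGrpCat.epi_iff_surjective]
  intro s
  obtain ⟨e, he⟩ := tilde_res_surjective E V.unop s
  exact ⟨tilde.toOpen E U.unop e,
    (ConcreteCategory.congr_hom (tilde.toOpen_res E _ _ i.unop) e).trans he⟩

end GrothLib.LocZ25
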